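import Mathlib.RepresentationTheory.Homological.GroupCohomology.LowDegree
import Mathlib.RepresentationTheory.Rep.Res
import Mathlib.Algebra.Homology.ShortComplex.ShortExact
import Mathlib.GroupTheory.GroupAction.Basic

set_option autoImplicit false

open CategoryTheory

namespace Groth.Agent.CoflasqueLib

attribute [local instance 2000] Rep.hV2 MonoidAlgebra.instModule Prod.instModule

variable {Γ : Type} [Group Γ]

/-- linear extension of a function on the standard basis -/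
noncomputable def liftX {k : Type} [Semiring k] {X M : Type} [AddCommMonoid M] [Module k M]
    (f : X → M) : MonoidAlgebra k X →ₗ[k] M :=
  Finsupp.lift M k X f ∘ₗ (MonoidAlgebra.coeffLinearEquiv k).toLinearMap

@[simp] lemma liftX_single {k : Type} [Semiring k] {X M : Type} [AddCommMonoid M] [Module k M]
    (f : X → M) (x : X) : liftX (k := k) f (MonoidAlgebra.single x 1) = f x := by
  simp [liftX]

lemma exact_elem {E : ShortComplex (Rep ℤ Γ)} (hE : E.ShortExact) (y : E.X₂.V)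
    (hy : E.g.hom y = 0) : ∃ x : E.X₁.V, E.f.hom x = y := by
  have h := hE.exact.map (forget₂ (Rep ℤ Γ) (ModuleCat ℤ))
  rw [ShortComplex.moduleCat_exact_iff] at h
  exact h y hy

lemma exists_cobound {H : Type} [Group H] (A : Rep ℤ H)
    (h0 : Limits.IsZero (groupCohomology A 1)) (f : H → A.V)
    (hf : ∀ g h, f (g * h) = A.ρ g (f h) + f g) :
    ∃ m : A.V, ∀ g, A.ρ g m - m = f g := by
  have hmem : f ∈ groupCohomology.cocycles₁ A := (groupCohomology.mem_cocycles₁_iff f).2 hf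
  have hs : Subsingleton (groupCohomology A 1) := ModuleCat.subsingleton_of_isZero h0
  have := (groupCohomology.H1π_eq_zero_iff (⟨f, hmem⟩ : groupCohomology.cocycles₁ A)).1
    (@Subsingleton.elim _ hs _ _)
  obtain ⟨m, hm⟩ := this
  exact ⟨m, fun g => congrFun hm g⟩

lemma isZero_of_cobound {H : Type} [Group H] (A : Rep ℤ H)
    (h : ∀ f : H → A.V, (∀ g h, f (g * h) = A.ρ g (f h) + f g) →
      ∃ m : A.V, ∀ g, A.ρ g m - m = f g) :
    Limits.IsZero (groupCohomology A 1) := by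
  rw [ModuleCat.isZero_iff_subsingleton]
  refine subsingleton_of_forall_eq (0 : groupCohomology A 1) fun y => ?_
  induction y using groupCohomology.H1_induction_on with
  | h x =>
    refine (groupCohomology.H1π_eq_zero_iff x).2 ?_
    obtain ⟨m, hm⟩ := h x ((groupCohomology.mem_cocycles₁_iff _).1 x.2)
    exact ⟨m, funext hm⟩

theorem splits_of_h1 {Λ : Rep ℤ Γ}
    (h : ∀ Γ' : Subgroup Γ, Limits.IsZero (groupCohomology (Rep.res Γ'.subtype Λ) 1))
    (X : Type) [MulAction Γ X] (E : ShortComplex (Rep ℤ Γ)) (hE : E.ShortExact)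
    (a : E.X₁ ≅ Λ) (b : E.X₃ ≅ Rep.ofMulAction ℤ Γ X) : Nonempty E.Splitting := by
  have hsurj : Function.Surjective E.g.hom := (Rep.epi_iff_surjective _).1 hE.epi_g
  have hinj : Function.Injective E.f.hom := (Rep.mono_iff_injective _).1 hE.mono_f
  let pt : X → E.X₃.V := fun x => b.inv.hom (MonoidAlgebra.single x (1 : ℤ))
  have hpt : ∀ (g : Γ) (x : X), E.X₃.ρ g (pt x) = pt (g • x) := fun g x => by
    simp only [pt]
    rw [← Rep.hom_comm_apply]
    erw [Representation.ofMulAction_single]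
  -- invariant lifts
  have key : ∀ x : X, ∃ e : E.X₂.V, E.g.hom e = pt x ∧
      ∀ γ : Γ, γ • x = x → E.X₂.ρ γ e = e := by
    intro x
    obtain ⟨e0, he0⟩ := hsurj (pt x)
    have hex : ∀ γ : MulAction.stabilizer Γ x,
        ∃ y : E.X₁.V, E.f.hom y = E.X₂.ρ γ e0 - e0 := by
      intro γ
      refine exact_elem hE _ ?_
      rw [map_sub, Rep.hom_comm_apply, he0, hpt, γ.2, sub_self]
    choose y hy using hex
    have hcoc : ∀ g h : MulAction.stabilizer Γ x,
        y (g * h) = E.X₁.ρ g (y h) + y g := by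
      intro g h
      apply hinj
      rw [map_add, Rep.hom_comm_apply, hy, hy, hy, Subgroup.coe_mul, map_mul,
        Module.End.mul_apply, map_sub]
      abel
    obtain ⟨m, hm⟩ := exists_cobound _ (h (MulAction.stabilizer Γ x))
      (fun γ => a.hom.hom (y γ)) (fun g h => by
        show a.hom.hom (y (g * h)) = _
        rw [hcoc, map_add, Rep.hom_comm_apply]; rfl)
    refine ⟨e0 - E.f.hom (a.inv.hom m), ?_, ?_⟩
    · have hz : E.g.hom (E.f.hom (a.inv.hom m)) = 0 := by
        rw [← Rep.comp_apply, E.zero]; rfl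
      rw [map_sub, hz, sub_zero, he0]
    · intro γ hγ
      have h1 := hm ⟨γ, hγ⟩
      have h2 : E.f.hom (a.inv.hom (Λ.ρ γ m - m)) = E.X₂.ρ γ e0 - e0 := by
        have : (Λ.ρ γ m - m) = a.hom.hom (y ⟨γ, hγ⟩) := h1
        rw [this, Rep.inv_hom_apply, hy]
      rw [map_sub, map_sub, Rep.hom_comm_apply, Rep.hom_comm_apply] at h2
      rw [map_sub]
      exact sub_eq_sub_iff_sub_eq_sub.mp h2.symm
  choose e he hfix using key
  let r : X → X := fun x => (Quotient.mk (MulAction.orbitRel Γ X) x).out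
  have hr : ∀ (g : Γ) (x : X), r (g • x) = r x := fun g x =>
    congrArg Quotient.out (Quotient.sound (show g • x ∈ MulAction.orbit Γ x from ⟨g, rfl⟩))
  have hk : ∀ x : X, ∃ k : Γ, k • r x = x := by
    intro x
    obtain ⟨g, hg⟩ : r x ∈ MulAction.orbit Γ x :=
      Quotient.exact (Quotient.out_eq (Quotient.mk (MulAction.orbitRel Γ X) x))
    exact ⟨g⁻¹, by rw [← hg]; exact inv_smul_smul g x⟩
  choose k hk using hk
  let sec : X → E.X₂.V := fun x => E.X₂.ρ (k x) (e (r x))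
  have hsec : ∀ (g : Γ) (x : X), sec (g • x) = E.X₂.ρ g (sec x) := by
    intro g x
    simp only [sec, hr g x]
    have hst : ((k (g • x))⁻¹ * (g * k x)) • r x = r x := by
      rw [mul_smul, mul_smul, hk x, inv_smul_eq_iff]
      conv_rhs => rw [← hr g x, hk (g • x)]
    have h2 := congrArg (E.X₂.ρ (k (g • x))) (hfix _ _ hst)
    rw [← Module.End.mul_apply, ← map_mul, mul_inv_cancel_left] at h2
    rw [← h2, map_mul, Module.End.mul_apply]
  have hsecg : ∀ x : X, E.g.hom (sec x) = pt x := fun x => by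
    simp only [sec]
    rw [Rep.hom_comm_apply, he, hpt, hk]
  let L : MonoidAlgebra ℤ X →ₗ[ℤ] E.X₂.V := liftX (k := ℤ) sec
  have hL : ∀ x : X, L (MonoidAlgebra.single x 1) = sec x := fun x => by simp [L]
  let s : Rep.ofMulAction ℤ Γ X ⟶ E.X₂ := Rep.ofHom ⟨L, fun g => by ext x; simp [L, hsec]⟩
  refine ⟨ShortComplex.Splitting.ofExactOfSection E hE.exact (b.hom ≫ s) ?_ hE.mono_f⟩
  have hsb : s ≫ E.g = b.inv := by
    apply Rep.hom_ext
    apply Representation.IntertwiningMap.toLinearMap_injective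
    ext x
    show E.g.hom (L (MonoidAlgebra.single x 1)) = pt x
    rw [hL, hsecg]
  rw [Category.assoc, hsb, Iso.hom_inv_id]

section converse

variable {X : Type} [MulAction Γ X]

/-- the linear map attached to a twisting function -/
noncomputable def twistMap (Λ : Rep ℤ Γ) (c : Γ → X → Λ.V) (g : Γ) :
    MonoidAlgebra ℤ X →ₗ[ℤ] Λ.V :=
  liftX (k := ℤ) (c g)

lemma twistMap_single (Λ : Rep ℤ Γ) (c : Γ → X → Λ.V) (g : Γ) (x : X) :
    twistMap Λ c g (MonoidAlgebra.single x 1) = c g x := by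
  simp [twistMap]

theorem cobound_of_splits (Λ : Rep ℤ Γ) (c : Γ → X → Λ.V)
    (hc : ∀ g h x, c (g * h) x = Λ.ρ g (c h x) + c g (h • x))
    (hyp : ∀ (E : ShortComplex (Rep ℤ Γ)),
        E.ShortExact → Nonempty (E.X₁ ≅ Λ) → Nonempty (E.X₃ ≅ Rep.ofMulAction ℤ Γ X) →
          Nonempty E.Splitting) :
    ∃ b : X → Λ.V, ∀ g x, Λ.ρ g (b x) + c g x = b (g • x) := by
  have hc1 : ∀ x, c 1 x = 0 := fun x => by
    simpa using hc 1 1 x
  let P := Rep.ofMulAction ℤ Γ X
  let T : Γ → ((Λ.V × P.V) →ₗ[ℤ] (Λ.V × P.V)) := fun g =>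
    LinearMap.prod (Λ.ρ g ∘ₗ LinearMap.fst ℤ _ _ + twistMap Λ c g ∘ₗ LinearMap.snd ℤ _ _)
      (P.ρ g ∘ₗ LinearMap.snd ℤ _ _)
  have hT : ∀ (g : Γ) (v : Λ.V × P.V),
      T g v = (Λ.ρ g v.1 + twistMap Λ c g v.2, P.ρ g v.2) := fun g v => rfl
  have h1 : ∀ v, twistMap Λ c 1 v = 0 := by
    suffices twistMap Λ c 1 = 0 from fun v => by rw [this]; rfl
    ext x; simp [twistMap, hc1]
  have hmul : ∀ g h v, twistMap Λ c (g * h) v =
      Λ.ρ g (twistMap Λ c h v) + twistMap Λ c g (P.ρ h v) := by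
    intro g h
    suffices twistMap Λ c (g * h) = Λ.ρ g ∘ₗ twistMap Λ c h + twistMap Λ c g ∘ₗ P.ρ h from
      fun v => by rw [this]; rfl
    ext x
    simp [twistMap, hc, P]
  let ρE : Representation ℤ Γ (Λ.V × P.V) :=
    { toFun := T
      map_one' := LinearMap.ext fun v => by simp [hT, h1]
      map_mul' := fun g h => LinearMap.ext fun v => by
        rw [Module.End.mul_apply, hT, hT, hT, hmul, map_mul, map_mul, Module.End.mul_apply,
          Module.End.mul_apply, map_add]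
        ext
        · simp [add_assoc]
        · rfl }
  have hρE : ∀ g, ρE g = T g := fun g => rfl
  let i : Λ ⟶ Rep.of ρE := Rep.ofHom ⟨LinearMap.inl ℤ _ _, fun g => LinearMap.ext fun v => by
    simp [hρE, hT]⟩
  let p : Rep.of ρE ⟶ P := Rep.ofHom ⟨LinearMap.snd ℤ _ _, fun g => LinearMap.ext fun v => by
    simp [hρE, hT, P]⟩
  let E : ShortComplex (Rep ℤ Γ) := ShortComplex.mk i p (by
    apply Rep.hom_ext; apply Representation.IntertwiningMap.toLinearMap_injective
    ext v; rfl)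
  have hE : E.ShortExact := by
    refine @ShortComplex.ShortExact.mk _ _ _ E ?_ ?_ ?_
    · rw [← ShortComplex.exact_map_iff_of_faithful E (forget₂ (Rep ℤ Γ) (ModuleCat ℤ)),
        ShortComplex.moduleCat_exact_iff]
      intro v (hv : (v : Λ.V × P.V).2 = 0)
      exact ⟨(v : Λ.V × P.V).1, Prod.ext rfl hv.symm⟩
    · exact (Rep.mono_iff_injective _).2 fun v w h => congrArg Prod.fst h
    · exact (Rep.epi_iff_surjective _).2 fun v => ⟨(0, v), rfl⟩
  obtain ⟨sp⟩ := hyp E hE ⟨Iso.refl _⟩ ⟨Iso.refl _⟩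
  let s : P ⟶ Rep.of ρE := sp.s
  have hs : ∀ v : P.V, (s.hom v).2 = v := fun v => by
    have := congrArg (fun φ => φ.hom v) sp.s_g
    exact this
  refine ⟨fun x => (s.hom (MonoidAlgebra.single x 1)).1, fun g x => ?_⟩
  have h2 := congrArg Prod.fst (Rep.hom_comm_apply s g (MonoidAlgebra.single x 1))
  simp only [P, Representation.ofMulAction_single] at h2
  beta_reduce
  rw [h2]
  change _ = (T g (s.hom (MonoidAlgebra.single x 1))).1
  rw [hT]
  show _ = Λ.ρ g _ + twistMap Λ c g _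
  rw [hs, twistMap_single]

end converse

theorem h1_of_splits {Λ : Rep ℤ Γ} (Γ' : Subgroup Γ)
    (hyp : ∀ (E : ShortComplex (Rep ℤ Γ)),
        E.ShortExact → Nonempty (E.X₁ ≅ Λ) → Nonempty (E.X₃ ≅ Rep.ofMulAction ℤ Γ (Γ ⧸ Γ')) →
          Nonempty E.Splitting) :
    Limits.IsZero (groupCohomology (Rep.res Γ'.subtype Λ) 1) := by
  classical
  refine isZero_of_cobound _ fun f hf => ?_
  let x0 : Γ ⧸ Γ' := ((1 : Γ) : Γ ⧸ Γ')
  let σ : Γ ⧸ Γ' → Γ := fun x => if x = x0 then 1 else x.out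
  have hσ : ∀ x : Γ ⧸ Γ', ((σ x : Γ) : Γ ⧸ Γ') = x := by
    intro x
    by_cases h : x = x0
    · simp [σ, h, x0]
    · simp [σ, h]
  have hγ : ∀ (g : Γ) (x : Γ ⧸ Γ'), (σ (g • x))⁻¹ * (g * σ x) ∈ Γ' := by
    intro g x
    rw [← QuotientGroup.eq, hσ]
    conv_lhs => rw [← hσ x]
    rfl
  let γ : Γ → Γ ⧸ Γ' → Γ' := fun g x => ⟨_, hγ g x⟩
  let c : Γ → Γ ⧸ Γ' → Λ.V := fun g x => Λ.ρ (σ (g • x)) (f (γ g x))
  have hc : ∀ g h x, c (g * h) x = Λ.ρ g (c h x) + c g (h • x) := by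
    intro g h x
    have hgh : γ (g * h) x = γ g (h • x) * γ h x := by
      apply Subtype.ext
      simp [γ, mul_smul, mul_assoc]
    simp only [c, hgh, hf]
    rw [map_add, mul_smul]
    congr 1
    show Λ.ρ _ (Λ.ρ ((γ g (h • x) : Γ')) _) = _
    rw [← Module.End.mul_apply, ← map_mul, ← Module.End.mul_apply, ← map_mul]
    congr 2
    simp [γ]
  obtain ⟨b, hb⟩ := cobound_of_splits Λ c hc hyp
  refine ⟨-(b x0), fun g => ?_⟩
  have hfix : (g : Γ) • x0 = x0 := by
    show (((g : Γ) * 1 : Γ) : Γ ⧸ Γ') = ((1 : Γ) : Γ ⧸ Γ')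
    rw [QuotientGroup.eq]; simp
  have hγ0 : γ g x0 = g := by
    apply Subtype.ext
    simp [γ, hfix, σ]
  have h2 := hb g x0
  simp only [c, hfix, hγ0] at h2
  have h3 : σ x0 = 1 := by simp [σ]
  rw [h3, map_one, Module.End.one_apply] at h2
  show Λ.ρ g (-(b x0)) - -(b x0) = f g
  rw [map_neg, sub_neg_eq_add, neg_add_eq_iff_eq_add]
  exact h2.symm

end Groth.Agent.CoflasqueLib
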